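import Cfsg.Agent.H764.MCChain

/-!
# Basic facts on uniserial `p`-groups with operators; the commutator pairing
-/

set_option autoImplicit false

namespace Cfsg.Agent.H750.MC

open Subgroup Cfsg.Agent.H764.MC
open scoped commutatorElement IsMulCommutative

section Pairing

variable {X : Type*} [Group X] (K : Subgroup X) [hKn : K.Normal]

/-- Commutators are central modulo `K`. -/
def Cen : Prop := ∀ a b c : X, c * ⁅a, b⁆ * c⁻¹ * ⁅a, b⁆⁻¹ ∈ K

variable {K}

theorem Cen.mem (hK : Cen K) (a b : X) : (QuotientGroup.mk ⁅a, b⁆ : X ⧸ K) ∈ center (X ⧸ K) := by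
  rw [mem_center_iff]
  intro g
  induction g using QuotientGroup.induction_on with
  | H c =>
    rw [← QuotientGroup.mk_mul, ← QuotientGroup.mk_mul, QuotientGroup.eq]
    have h1 := hKn.conj_mem _ (K.inv_mem (hK a b c)) (⁅a, b⁆⁻¹)
    have h2 := hKn.conj_mem _ h1 c⁻¹
    have h3 := hK a b c⁻¹
    have h4 := hKn.conj_mem _ h3 (⁅a, b⁆⁻¹)
    have : (c * ⁅a, b⁆)⁻¹ * (⁅a, b⁆ * c) = ⁅a, b⁆⁻¹ * (c⁻¹ * ⁅a, b⁆ * c⁻¹⁻¹ * ⁅a, b⁆⁻¹) * ⁅a, b⁆⁻¹⁻¹ := by
      group
    rw [this]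
    exact h4

/-- The commutator pairing modulo `K`. -/
def pr (hK : Cen K) : X →* X →* center (X ⧸ K) :=
  MonoidHom.mk' (fun a => MonoidHom.mk' (fun b => ⟨(QuotientGroup.mk ⁅a, b⁆ : X ⧸ K), hK.mem a b⟩)
    (by
      intro b c
      apply Subtype.ext
      show (QuotientGroup.mk ⁅a, b * c⁆ : X ⧸ K) = QuotientGroup.mk ⁅a, b⁆ * QuotientGroup.mk ⁅a, c⁆
      have h1 : ⁅a, b * c⁆ = ⁅a, b⁆ * (b * ⁅a, c⁆ * b⁻¹) := by
        simp only [commutatorElement_def]; group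
      have h2 : (QuotientGroup.mk (b * ⁅a, c⁆ * b⁻¹) : X ⧸ K) = QuotientGroup.mk ⁅a, c⁆ := by
        rw [QuotientGroup.mk_mul, QuotientGroup.mk_mul, QuotientGroup.mk_inv,
          mem_center_iff.1 (hK.mem a c) (QuotientGroup.mk b), mul_inv_cancel_right]
      rw [h1, QuotientGroup.mk_mul, h2]))
    (by
      intro a b
      ext c
      show (QuotientGroup.mk ⁅a * b, c⁆ : X ⧸ K) = QuotientGroup.mk ⁅a, c⁆ * QuotientGroup.mk ⁅b, c⁆
      have h1 : ⁅a * b, c⁆ = (a * ⁅b, c⁆ * a⁻¹) * ⁅a, c⁆ := by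
        simp only [commutatorElement_def]; group
      have h2 : (QuotientGroup.mk (a * ⁅b, c⁆ * a⁻¹) : X ⧸ K) = QuotientGroup.mk ⁅b, c⁆ := by
        rw [QuotientGroup.mk_mul, QuotientGroup.mk_mul, QuotientGroup.mk_inv,
          mem_center_iff.1 (hK.mem b c) (QuotientGroup.mk a), mul_inv_cancel_right]
      rw [h1, QuotientGroup.mk_mul, h2]
      exact (mem_center_iff.1 (hK.mem b c) _).symm)

theorem pr_coe (hK : Cen K) (a b : X) : (pr hK a b : X ⧸ K) = QuotientGroup.mk ⁅a, b⁆ := rfl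

theorem pr_eq_one (hK : Cen K) {a b : X} : pr hK a b = 1 ↔ ⁅a, b⁆ ∈ K := by
  rw [← QuotientGroup.eq_one_iff, ← pr_coe hK, Subtype.ext_iff]
  rfl

theorem pr_self (hK : Cen K) (a : X) : pr hK a a = 1 := by
  rw [pr_eq_one, commutatorElement_self]
  exact K.one_mem

theorem pr_swap (hK : Cen K) (a b : X) : pr hK a b = (pr hK b a)⁻¹ := by
  apply Subtype.ext
  rw [pr_coe, ← commutatorElement_inv]
  rfl

end Pairing

variable {X M : Type*} [Group X] [Finite X] [Group M] [MulDistribMulAction M X] {p n m : ℕ}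
  [hp : Fact p.Prime] {V : ℕ → Subgroup X} {s t : M} {N : Subgroup M}

omit [Finite X] hp in
theorem le_of_le (h : Chain p n m V s t N) {i j : ℕ} (hij : i ≤ j) : V j ≤ V i :=
  antitone_nat_of_succ_le h.anti hij

omit [Finite X] in
theorem not_le (h : Chain p n m V s t N) {i : ℕ} (h1 : 1 ≤ i) (hn : i < n) : ¬ V i ≤ V (i + 1) := by
  intro hle
  have h2 := h.idx i h1 hn
  rw [relIndex_eq_one.2 hle] at h2
  exact hp.out.one_lt.ne h2

omit [Finite X] in
theorem exists_notMem (h : Chain p n m V s t N) {i : ℕ} (h1 : 1 ≤ i) (hn : i < n) :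
    ∃ v ∈ V i, v ∉ V (i + 1) := by
  by_contra hcon
  push Not at hcon
  exact not_le h h1 hn hcon

omit [Finite X] in
theorem le_iff (h : Chain p n m V s t N) {i j : ℕ} (hi : 1 ≤ i) (hjn : j ≤ n) :
    V i ≤ V j ↔ j ≤ i := by
  refine ⟨fun hle => ?_, fun hij => le_of_le h hij⟩
  by_contra hcon
  push Not at hcon
  exact not_le h hi (by omega) (hle.trans (le_of_le h (by omega)))

omit [Finite X] hp in
theorem normal (h : Chain p n m V s t N) {i : ℕ} (hi : 1 ≤ i) : (V i).Normal := by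
  refine ⟨fun v hv x => ?_⟩
  have h1 := (V i).mul_mem (h.anti i (h.comm i hi v hv x)) hv
  rwa [inv_mul_cancel_right] at h1

omit [Finite X] hp in
theorem smul_mem (h : Chain p n m V s t N) {i : ℕ} (hi : 1 ≤ i) {v : X} (hv : v ∈ V i) :
    s • v ∈ V i := by
  have h1 := (V i).mul_mem (h.anti i (h.sact i hi v hv)) hv
  rwa [inv_mul_cancel_right] at h1

omit [Finite X] in
/-- the factors are cyclic of order `p` -/
theorem exists_pow (h : Chain p n m V s t N) {i : ℕ} (h1 : 1 ≤ i) (hn : i < n) {v w : X}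
    (hv : v ∈ V i) (hv' : v ∉ V (i + 1)) (hw : w ∈ V i) : ∃ k : ℤ, w * (v ^ k)⁻¹ ∈ V (i + 1) := by
  have hN : ((V (i + 1)).subgroupOf (V i)).Normal := by
    have := normal h (i := i + 1) (by omega)
    infer_instance
  have hc : Nat.card (V i ⧸ (V (i + 1)).subgroupOf (V i)) = p := h.idx i h1 hn
  have hv1 : (QuotientGroup.mk (⟨v, hv⟩ : V i) : V i ⧸ (V (i + 1)).subgroupOf (V i)) ≠ 1 := by
    intro h2
    rw [QuotientGroup.eq_one_iff, mem_subgroupOf] at h2
    exact hv' h2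
  obtain ⟨k, hk⟩ := mem_zpowers_iff.1 (mem_zpowers_of_prime_card hc hv1
    (g' := QuotientGroup.mk (⟨w, hw⟩ : V i)))
  refine ⟨k, ?_⟩
  rw [← QuotientGroup.mk_zpow, QuotientGroup.eq, mem_subgroupOf] at hk
  have h3 : (v ^ k)⁻¹ * w ∈ V (i + 1) := hk
  have h4 := (normal h (i := i + 1) (by omega)).conj_mem _ h3 (v ^ k)
  have h5 : v ^ k * ((v ^ k)⁻¹ * w) * (v ^ k)⁻¹ = w * (v ^ k)⁻¹ := by group
  rwa [h5] at h4

omit [Finite X] in
theorem pow_mem_succ (h : Chain p n m V s t N) {i : ℕ} (h1 : 1 ≤ i) (hn : i < n) {v : X}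
    (hv : v ∈ V i) : v ^ p ∈ V (i + 1) := by
  have hN : ((V (i + 1)).subgroupOf (V i)).Normal := by
    have := normal h (i := i + 1) (by omega)
    infer_instance
  have hc : Nat.card (V i ⧸ (V (i + 1)).subgroupOf (V i)) = p := h.idx i h1 hn
  have h2 : (QuotientGroup.mk (⟨v, hv⟩ : V i) : V i ⧸ (V (i + 1)).subgroupOf (V i)) ^ p = 1 := by
    rw [← hc]
    exact pow_card_eq_one'
  rw [← QuotientGroup.mk_pow, QuotientGroup.eq_one_iff, mem_subgroupOf] at h2
  exact h2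

/-- `D a = [s, a]` -/
def D (s : M) (a : X) : X := s • a * a⁻¹

omit [Finite X] hp in
theorem D_mem (h : Chain p n m V s t N) {i : ℕ} (hi : 1 ≤ i) {v : X} (hv : v ∈ V i) :
    D s v ∈ V (i + 1) := h.sact i hi v hv

omit [Finite X] hp in
/-- the sequence `D^i v` -/
theorem iter_mem (h : Chain p n m V s t N) (v : X) (hv : v ∉ V 2) (i : ℕ) (hi : i + 1 < n) :
    (D s)^[i] v ∈ V (i + 1) ∧ (D s)^[i] v ∉ V (i + 2) := by
  induction i with
  | zero => exact ⟨by rw [h.top]; exact mem_top _, hv⟩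
  | succ i ih =>
    obtain ⟨h1, h2⟩ := ih (by omega)
    rw [Function.iterate_succ_apply']
    exact ⟨D_mem h (by omega) h1, fun h3 => h2 (h.sact' (i + 1) (by omega) (by omega) _ h1 h3)⟩

omit [Finite X] [Group M] [MulDistribMulAction M X] hp in
theorem smul_comm' {M : Type*} [Group M] [MulDistribMulAction M X] (g : M) (a b : X) :
    g • ⁅a, b⁆ = ⁅g • a, g • b⁆ := by
  simp only [commutatorElement_def, smul_mul', smul_inv']

end Cfsg.Agent.H750.MC
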