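import Cfsg.Agent.H750.MC.Parity

/-!
# The commutator contradiction

If the invariant members of the chain are exactly the `V j` with `p - 1 ∣ j` or `p - 1 ∣ j - 1`, then `X` is abelian.
-/

set_option autoImplicit false

namespace Cfsg.Agent.H750.MC

open Subgroup Cfsg.Agent.H764.MC
open scoped commutatorElement IsMulCommutative

/-- the recursion for the commutator values -/
theorem seq_mem {Z : Type*} [AddCommGroup Z] (σ : Z →+ Z) (A B : ℕ → Z)
    (hB : ∀ i, σ (B i) = B (i + 1) + B i) (hA : ∀ i, σ (A i) = A (i + 1) + A i + B (i + 1) + B i)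
    (W : ℕ → AddSubgroup Z) (hW : ∀ j, ∀ z ∈ W j, σ z - z ∈ W (j + 1)) (h0 : A 0 ∈ W 0) (k : ℕ) :
    A (k + 1) + (k + 1) • (B k + B (k + 1)) ∈ W (k + 1) := by
  induction k with
  | zero =>
    have h1 := hW 0 _ h0
    rw [hA] at h1
    convert h1 using 1
    simp only [zero_add, one_smul]
    abel
  | succ k ih =>
    have h1 := hW _ _ ih
    convert h1 using 1
    simp only [map_add, map_nsmul, hA, hB, add_smul, smul_add, one_smul]
    abel

variable {X M : Type*} [Group X] [Finite X] [Group M] [MulDistribMulAction M X] {p n m : ℕ}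
  [hp : Fact p.Prime] {V : ℕ → Subgroup X} {s t : M} {N : Subgroup M}

omit [Finite X] in
theorem exists_pow_eq_one (h : Chain p n m V s t N) (x : X) : ∃ k, x ^ p ^ k = 1 := by
  have h1 : ∀ k, k + 1 ≤ n → x ^ p ^ k ∈ V (k + 1) := by
    intro k
    induction k with
    | zero => intro _; rw [h.top]; exact mem_top _
    | succ k ih =>
      intro hk
      rw [pow_succ, pow_mul]
      exact pow_mem_succ h (by omega) (by omega) (ih (by omega))
  have h2 := h.two_le
  refine ⟨n - 1, ?_⟩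
  have h3 := h1 (n - 1) (by omega)
  rwa [Nat.sub_add_cancel (by omega), h.bot, mem_bot] at h3

omit [Finite X] hp in
/-- commutators of invariant subgroups are invariant -/
theorem inv_comm (H₁ H₂ : Subgroup X) (h1 : ∀ g : M, ∀ x ∈ H₁, g • x ∈ H₁)
    (h2 : ∀ g : M, ∀ x ∈ H₂, g • x ∈ H₂) (g : M) : ∀ x ∈ ⁅H₁, H₂⁆, g • x ∈ ⁅H₁, H₂⁆ := by
  have h3 : ⁅H₁, H₂⁆ ≤ ⁅H₁, H₂⁆.comap (MulDistribMulAction.toMonoidHom X g) := by
    rw [commutator_le]
    intro a ha b hb
    rw [mem_comap, map_commutatorElement]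
    exact commutator_mem_commutator (h1 g a ha) (h2 g b hb)
  exact h3

theorem step_comm (h : Chain p n m V s t N) (hp5 : 5 ≤ p) (hn : p - 1 ∣ n)
    (hI : ∀ j, 1 ≤ j → j ≤ n → (Inv M V j ↔ (p - 1 ∣ j ∨ p - 1 ∣ j - 1)))
    (hna : ∃ x y : X, x * y ≠ y * x) : False := by
  have hn2 := h.two_le
  have hp1e : Even (p - 1) := hp.out.even_sub_one (by omega)
  -- invariant subgroups
  have hinv : ∀ H : Subgroup X, H.Normal → (∀ g : M, ∀ x ∈ H, g • x ∈ H) →
      ∃ i, 1 ≤ i ∧ i ≤ n ∧ H = V i ∧ (p - 1 ∣ i ∨ p - 1 ∣ i - 1) := by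
    intro H hHn hH
    obtain ⟨i, h1, h2, h3⟩ := h.inv H hHn (hH s)
    refine ⟨i, h1, h2, h3, (hI i h1 h2).1 ?_⟩
    intro g x hx
    rw [← h3] at hx ⊢
    exact hH g x hx
  have hcomm : ∀ g : M, ∀ x ∈ commutator X, g • x ∈ commutator X := by
    intro g
    rw [commutator_def]
    exact inv_comm ⊤ ⊤ (fun _ _ _ => mem_top _) (fun _ _ _ => mem_top _) g
  obtain ⟨q, hq1, hqn', hC, hqI⟩ := hinv (commutator X) inferInstance hcomm
  have hq2 : 2 ≤ q := by
    have h1 : commutator X ≤ V 2 := by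
      rw [commutator_def, commutator_le]
      intro a _ b _
      exact h.comm 1 le_rfl b (by rw [h.top]; exact mem_top b) a
    rw [hC] at h1
    exact (le_iff h hq1 hn2).1 h1
  have hqn : q < n := by
    rcases lt_or_eq_of_le hqn' with h1 | h1
    · exact h1
    · exfalso
      obtain ⟨x, y, hxy⟩ := hna
      apply hxy
      have h2 := comm_mem hC x y
      rw [h1, h.bot, mem_bot, commutatorElement_eq_one_iff_mul_comm] at h2
      exact h2
  have hnp : p + 2 ≤ n := by
    obtain ⟨c, hc⟩ := hn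
    have hc2 : 2 ≤ c := by
      by_contra hcon
      have hcn : n = p - 1 := by
        rcases Nat.lt_or_ge c 1 with h1 | h1
        · have : c = 0 := by omega
          subst this
          omega
        · have : c = 1 := by omega
          subst this
          omega
      rcases hqI with h1 | h1
      · have := Nat.le_of_dvd (by omega) h1
        omega
      · have := Nat.le_of_dvd (by omega) h1
        omega
    have : (p - 1) * 2 ≤ (p - 1) * c := Nat.mul_le_mul_left _ hc2
    omega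
  obtain ⟨r, hr2, hrn, hR, hR'⟩ := exists_rad h hq2 hqn hC
  obtain ⟨hodd, hdvd⟩ := rad_pos h (by omega) hq2 hqn hC hr2 hrn hR hR'
  have hKn : (V (q + 1)).Normal := normal h (by omega)
  have hK := cen h (by omega) hC
  -- `p - 1` divides `q - 1` and `r - 1`
  have hqr : ((p - 1 : ℕ) : ℤ) ∣ (q : ℤ) - r := by
    have h1 : ((p - 1 : ℕ) : ℤ) ∣ ((n + q - r : ℕ) : ℤ) := Int.natCast_dvd_natCast.2 hdvd
    have h2 : ((p - 1 : ℕ) : ℤ) ∣ (n : ℤ) := Int.natCast_dvd_natCast.2 hn
    have h3 := dvd_sub h1 h2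
    have h4 : ((n + q - r : ℕ) : ℤ) - n = (q : ℤ) - r := by
      rw [Nat.cast_sub (by omega), Nat.cast_add]
      ring
    rwa [h4] at h3
  have hq1d : p - 1 ∣ q - 1 := by
    rcases hqI with h1 | h1
    · exfalso
      have h2 : ((p - 1 : ℕ) : ℤ) ∣ (q : ℤ) := Int.natCast_dvd_natCast.2 h1
      have h3 := dvd_sub h2 hqr
      rw [sub_sub_cancel] at h3
      have h4 : p - 1 ∣ r := Int.natCast_dvd_natCast.1 h3
      exact hodd (hp1e.trans_dvd h4)
    · exact h1
  have hr1d : p - 1 ∣ r - 1 := by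
    have h2 : ((p - 1 : ℕ) : ℤ) ∣ ((q - 1 : ℕ) : ℤ) := Int.natCast_dvd_natCast.2 hq1d
    have h3 := dvd_sub h2 hqr
    have h4 : ((q - 1 : ℕ) : ℤ) - ((q : ℤ) - r) = ((r - 1 : ℕ) : ℤ) := by
      rw [Nat.cast_sub (by omega), Nat.cast_sub (by omega)]
      push_cast
      ring
    rw [h4] at h3
    exact Int.natCast_dvd_natCast.1 h3
  have hrp : p ≤ r := by
    have := Nat.le_of_dvd (by omega) hr1d
    omega
  obtain ⟨b, -, hb⟩ := exists_notMem h (i := 1) le_rfl (by omega)
  have hrp' : r = p := by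
    by_contra hne
    have h1 : b ^ p ∈ V r := by
      rw [hR]
      intro c
      rw [← pr_eq_one hK, map_pow, MonoidHom.pow_apply]
      exact pr_pow h (by omega) hqn hC hK b c
    have h2 : b ^ p ∈ V (1 + p) := le_of_le h (by omega) h1
    exact hb (h.pow hnp 1 le_rfl (by omega) b (by rw [h.top]; exact mem_top b) h2)
  subst hrp'
  -- the second quotient
  have hqn2 : q + r - 2 ≤ n := by
    have h1 : r - 1 ∣ n - (q - 1) := Nat.dvd_sub hn hq1d
    have := Nat.le_of_dvd (by omega) h1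
    omega
  have hgap : ∀ H : Subgroup X, H.Normal → (∀ g : M, ∀ x ∈ H, g • x ∈ H) → H ≤ V (q + 1) →
      H ≤ V (q + r - 2) := by
    intro H hHn hH hle
    obtain ⟨j, hj1, hjn, hj, hjI⟩ := hinv H hHn hH
    rw [hj] at hle ⊢
    have hqj := (le_iff h hj1 (by omega)).1 hle
    apply le_of_le h
    rcases hjI with h1 | h1
    · have h2 : r - 1 ∣ j - (q - 1) := Nat.dvd_sub h1 hq1d
      have := Nat.le_of_dvd (by omega) h2
      omega
    · have h2 : r - 1 ∣ (j - 1) - (q - 1) := Nat.dvd_sub h1 hq1d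
      have := Nat.le_of_dvd (by omega) h2
      omega
  have hInvp1 : Inv M V (r - 1) := (hI (r - 1) (by omega) (by omega)).2 (Or.inl dvd_rfl)
  have hInvp : Inv M V r := (hI r (by omega) (by omega)).2 (Or.inr dvd_rfl)
  have hInvq : Inv M V q := (hI q (by omega) (by omega)).2 (Or.inr hq1d)
  have hInvK : Inv M V (q + r - 2) := by
    refine (hI _ (by omega) hqn2).2 (Or.inl ?_)
    have h1 : q + r - 2 = (q - 1) + (r - 1) := by omega
    rw [h1]
    exact dvd_add hq1d dvd_rfl
  have hVn : ∀ i, 1 ≤ i → (V i).Normal := fun i hi => normal h hi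
  have hleK : V (q + r - 2) ≤ V (q + 1) := le_of_le h (by omega)
  -- `[X, V p] ≤ K`
  have hXp : ∀ a : X, ∀ u ∈ V r, ⁅a, u⁆ ∈ V (q + r - 2) := by
    have hn1 := hVn r (by omega)
    have h1 : ⁅(⊤ : Subgroup X), V r⁆ ≤ V (q + r - 2) := by
      apply hgap _ inferInstance
        (fun g => inv_comm ⊤ (V r) (fun _ _ _ => mem_top _) hInvp g)
      rw [commutator_le]
      intro a _ u hu
      have h2 := (V (q + 1)).inv_mem ((hR u).1 hu a)
      rwa [commutatorElement_inv] at h2
    exact fun a u hu => h1 (commutator_mem_commutator (mem_top a) hu)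
  have hXq : ∀ a : X, ∀ u ∈ V q, ⁅a, u⁆ ∈ V (q + r - 2) := by
    have hn1 := hVn q (by omega)
    have h1 : ⁅(⊤ : Subgroup X), V q⁆ ≤ V (q + r - 2) := by
      apply hgap _ inferInstance
        (fun g => inv_comm ⊤ (V q) (fun _ _ _ => mem_top _) hInvq g)
      rw [commutator_le]
      intro a _ u hu
      exact h.comm q (by omega) u hu a
    exact fun a u hu => h1 (commutator_mem_commutator (mem_top a) hu)
  have hK2n : (V (q + r - 2)).Normal := hVn _ (by omega)
  have hK2 : Cen (V (q + r - 2)) := fun a b c => hXq c _ (comm_mem hC a b)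
  -- the action of `s` on the centre of the quotient
  let f : X ⧸ V (q + r - 2) →* X ⧸ V (q + r - 2) :=
    QuotientGroup.map _ _ (MulDistribMulAction.toMonoidHom X s)
      (fun x hx => hInvK s x hx)
  have hf : ∀ x : X, f (QuotientGroup.mk x) = QuotientGroup.mk (s • x) := fun x => rfl
  have hfc : ∀ z : X ⧸ V (q + r - 2), z ∈ center (X ⧸ V (q + r - 2)) →
      f z ∈ center (X ⧸ V (q + r - 2)) := by
    intro z hz
    rw [mem_center_iff] at hz ⊢
    intro g
    induction g using QuotientGroup.induction_on with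
    | H x =>
      have h1 : (QuotientGroup.mk x : X ⧸ V (q + r - 2)) = f (QuotientGroup.mk (s⁻¹ • x)) := by
        rw [hf, smul_inv_smul]
      rw [h1, ← map_mul, ← map_mul, hz]
  let σ : center (X ⧸ V (q + r - 2)) →* center (X ⧸ V (q + r - 2)) :=
    (f.comp (center (X ⧸ V (q + r - 2))).subtype).codRestrict _ (fun z => hfc z z.2)
  have hσ : ∀ a b : X, σ (pr hK2 a b) = pr hK2 (s • a) (s • b) := by
    intro a b
    apply Subtype.ext
    show f (QuotientGroup.mk ⁅a, b⁆) = QuotientGroup.mk ⁅s • a, s • b⁆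
    rw [hf, smul_comm']
  let W : ℕ → Subgroup (center (X ⧸ V (q + r - 2))) := fun k =>
    ((V (q + k)).map (QuotientGroup.mk' (V (q + r - 2)))).subgroupOf (center (X ⧸ V (q + r - 2)))
  have hWmem : ∀ k (z : center (X ⧸ V (q + r - 2))), z ∈ W k ↔
      ∃ x ∈ V (q + k), (QuotientGroup.mk x : X ⧸ V (q + r - 2)) = z := by
    intro k z
    exact Iff.rfl
  have hW : ∀ k, ∀ z ∈ W k, σ z * z⁻¹ ∈ W (k + 1) := by
    intro k z hz
    rw [hWmem] at hz ⊢
    obtain ⟨x, hx, hxz⟩ := hz
    refine ⟨D s x, D_mem h (i := q + k) (by omega) hx, ?_⟩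
    show (QuotientGroup.mk (s • x * x⁻¹) : X ⧸ V (q + r - 2)) = f z * (z : X ⧸ V (q + r - 2))⁻¹
    rw [← hxz, hf, QuotientGroup.mk_mul, QuotientGroup.mk_inv]
  set z := (D s)^[r - 2] b with hz
  set y := (D s)^[r - 3] b with hy
  have hzy : D s y = z := by
    rw [hy, hz, ← Function.iterate_succ_apply' (D s), show (r - 3).succ = r - 2 by omega]
  have hzV := iter_mem h b hb (r - 2) (by omega)
  rw [← hz, show r - 2 + 1 = r - 1 by omega, show r - 2 + 2 = r by omega] at hzV
  have hyV := iter_mem h b hb (r - 3) (by omega)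
  rw [← hy, show r - 3 + 1 = r - 2 by omega, show r - 3 + 2 = r - 1 by omega] at hyV
  have hDz : D s z ∈ V r := by
    have := D_mem h (by omega) hzV.1
    rwa [Nat.sub_add_cancel (by omega)] at this
  have hsD : ∀ x : X, s • x = D s x * x := fun x => by rw [D, inv_mul_cancel_right]
  let A : ℕ → Additive (center (X ⧸ V (q + r - 2))) := fun i =>
    Additive.ofMul (pr hK2 ((D s)^[i] b) y)
  let B : ℕ → Additive (center (X ⧸ V (q + r - 2))) := fun i =>
    Additive.ofMul (pr hK2 ((D s)^[i] b) z)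
  have hB : ∀ i, σ.toAdditive (B i) = B (i + 1) + B i := by
    intro i
    show Additive.ofMul (σ (pr hK2 ((D s)^[i] b) z))
      = Additive.ofMul (pr hK2 ((D s)^[i + 1] b) z * pr hK2 ((D s)^[i] b) z)
    congr 1
    rw [hσ, hsD z, map_mul, (pr_eq_one hK2).2 (hXp _ _ hDz), one_mul, hsD, map_mul,
      MonoidHom.mul_apply, Function.iterate_succ_apply']
  have hA : ∀ i, σ.toAdditive (A i) = A (i + 1) + A i + B (i + 1) + B i := by
    intro i
    show Additive.ofMul (σ (pr hK2 ((D s)^[i] b) y))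
      = Additive.ofMul (pr hK2 ((D s)^[i + 1] b) y * pr hK2 ((D s)^[i] b) y *
          pr hK2 ((D s)^[i + 1] b) z * pr hK2 ((D s)^[i] b) z)
    congr 1
    rw [hσ, hsD y, hzy, map_mul, hsD ((D s)^[i] b), map_mul, MonoidHom.mul_apply,
      MonoidHom.mul_apply, Function.iterate_succ_apply']
    rw [mul_comm, mul_assoc, mul_assoc, mul_assoc]
  have hmain := seq_mem σ.toAdditive A B hB hA (fun k => (W k).toAddSubgroup)
    (by
      intro k x hx
      show σ x.toMul / x.toMul ∈ W (k + 1)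
      rw [div_eq_mul_inv]
      exact hW k x.toMul hx)
    (by
      show pr hK2 b y ∈ W 0
      rw [hWmem]
      exact ⟨⁅b, y⁆, by rw [add_zero]; exact comm_mem hC b y, rfl⟩) (r - 3)
  rw [show r - 3 + 1 = r - 2 by omega] at hmain
  have hmain' : pr hK2 z y * (pr hK2 y z * pr hK2 z z) ^ (r - 2) = 1 := by
    have h1 : pr hK2 z y * (pr hK2 y z * pr hK2 z z) ^ (r - 2) ∈ W (r - 2) := hmain
    rw [hWmem] at h1
    obtain ⟨x, hx, hxz⟩ := h1
    apply Subtype.ext
    rw [← hxz]
    rw [show q + (r - 2) = q + r - 2 by omega] at hx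
    exact (QuotientGroup.eq_one_iff x).2 hx
  rw [pr_self, mul_one, pr_swap hK2 z y, inv_mul_eq_one] at hmain'
  have hpow : (pr hK2 y z) ^ (r - 3) = 1 := by
    have h1 : (pr hK2 y z) ^ (r - 2) = (pr hK2 y z) ^ (r - 3) * pr hK2 y z := by
      rw [← pow_succ]
      congr 1
      omega
    rw [h1] at hmain'
    exact right_eq_mul.1 hmain'
  have hyz : ⁅y, z⁆ ∈ V (q + r - 2) := by
    rw [← pr_eq_one hK2]
    obtain ⟨k, hk⟩ := exists_pow_eq_one h ⁅y, z⁆
    have h1 : (pr hK2 y z) ^ r ^ k = 1 := by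
      apply Subtype.ext
      rw [SubgroupClass.coe_pow, pr_coe, ← QuotientGroup.mk_pow, hk]
      rfl
    have hcop : Nat.Coprime (r - 3) (r ^ k) := by
      apply Nat.Coprime.pow_right
      rw [Nat.coprime_comm, hp.out.coprime_iff_not_dvd]
      intro h2
      have := Nat.le_of_dvd (by omega) h2
      omega
    have h10 := Nat.dvd_gcd (orderOf_dvd_of_pow_eq_one hpow) (orderOf_dvd_of_pow_eq_one h1)
    rw [hcop.gcd_eq_one] at h10
    exact orderOf_eq_one_iff.1 (Nat.dvd_one.1 h10)
  -- the last invariant subgroup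
  let T : Subgroup X :=
    { carrier := {a | ∀ u ∈ V (r - 1), ⁅a, u⁆ ∈ V (q + r - 2)}
      mul_mem' := by
        intro a c ha hc u hu
        rw [← pr_eq_one hK2, map_mul, MonoidHom.mul_apply, (pr_eq_one hK2).2 (ha u hu),
          (pr_eq_one hK2).2 (hc u hu), one_mul]
      one_mem' := by
        intro u _
        rw [← pr_eq_one hK2, map_one]
        rfl
      inv_mem' := by
        intro a ha u hu
        rw [← pr_eq_one hK2, map_inv, MonoidHom.inv_apply, (pr_eq_one hK2).2 (ha u hu), inv_one] }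
  have hTinv : ∀ g : M, ∀ x ∈ T, g • x ∈ T := by
    intro g x hx u hu
    have h1 := hInvK g _ (hx (g⁻¹ • u) (hInvp1 g⁻¹ u hu))
    rwa [smul_comm', smul_inv_smul] at h1
  have hTn : T.Normal := by
    refine ⟨fun a ha x => ?_⟩
    obtain ⟨g, -, hg⟩ := h.inn x
    rw [← hg]
    exact hTinv g a ha
  obtain ⟨j, hj1, hjn, hj, hjI⟩ := hinv T hTn hTinv
  have hyT : y ∈ T := by
    intro u hu
    obtain ⟨k, hk⟩ := exists_pow h (i := r - 1) (by omega) (by omega) hzV.1
      (by rw [Nat.sub_add_cancel (by omega)]; exact hzV.2) hu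
    rw [Nat.sub_add_cancel (by omega)] at hk
    have h1 := (pr_eq_one hK2).2 (hXp y _ hk)
    rw [map_mul, map_inv, map_zpow, (pr_eq_one hK2).2 hyz, one_zpow, inv_one, mul_one,
      pr_eq_one] at h1
    exact h1
  have hj2 : j ≤ r - 2 := by
    by_contra hcon
    rw [hj] at hyT
    exact hyV.2 (le_of_le h (by omega) hyT)
  have hj3 : j = 1 := by
    rcases hjI with h1 | h1
    · have := Nat.le_of_dvd (by omega) h1
      omega
    · by_contra hne
      have := Nat.le_of_dvd (by omega) h1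
      omega
  subst hj3
  rw [h.top] at hj
  have h1 : V (r - 1) ≤ V r := by
    intro u hu
    rw [hR]
    intro c
    have hc : c ∈ T := by rw [hj]; exact mem_top c
    have h2 := (V (q + 1)).inv_mem (hleK (hc u hu))
    rwa [commutatorElement_inv] at h2
  have h2 := (le_iff h (by omega) (by omega)).1 h1
  omega

end Cfsg.Agent.H750.MC
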