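import Cfsg.Agent.H750.MC.Rad

/-!
# Weights and parity
-/

set_option autoImplicit false

namespace Cfsg.Agent.H750.MC

open Subgroup Cfsg.Agent.H764.MC
open scoped commutatorElement IsMulCommutative

variable {X M : Type*} [Group X] [Finite X] [Group M] [MulDistribMulAction M X] {p n m : ℕ}
  [hp : Fact p.Prime] {V : ℕ → Subgroup X} {s t : M} {N : Subgroup M}

omit [Finite X] in
theorem dvd_of_pow_eq_one (h : Chain p n m V s t N) {j : ℕ} (hj : (m : ZMod p) ^ j = 1) :
    p - 1 ∣ j := by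
  have hp1 : 0 < p - 1 := Nat.sub_pos_of_lt hp.out.one_lt
  have h1 : (m : ZMod p) ^ (p - 1) = 1 := ZMod.pow_card_sub_one_eq_one h.ne
  have h2 : (m : ZMod p) ^ (j % (p - 1)) = 1 := by
    conv_lhs at hj => rw [← Nat.div_add_mod j (p - 1), pow_add, pow_mul, h1, one_pow, one_mul]
    exact hj
  rcases Nat.eq_zero_or_pos (j % (p - 1)) with h3 | h3
  · exact Nat.dvd_of_mod_eq_zero h3
  · exact absurd h2 (h.prim _ h3 (Nat.mod_lt _ hp1))

omit hp in
theorem inv_smul_mem (h : Chain p n m V s t N) {i : ℕ} (hi : 1 ≤ i) {v : X} (hv : v ∈ V i) :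
    s⁻¹ • v ∈ V i := by
  let f : V i → V i := fun v => ⟨s • (v : X), smul_mem h hi v.2⟩
  have hf : Function.Injective f := by
    intro a b hab
    exact Subtype.ext (MulAction.injective s (congrArg Subtype.val hab))
  obtain ⟨w, hw⟩ := (Finite.injective_iff_surjective.1 hf) ⟨v, hv⟩
  have h1 : s • (w : X) = v := congrArg Subtype.val hw
  rw [← h1, inv_smul_smul]
  exact w.2

/-- `D' a = s⁻¹ (D a)` -/
def D' (s : M) (a : X) : X := s⁻¹ • D s a

omit hp in
/-- `D'` and `D` agree on the factors. -/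
theorem iter_congr (h : Chain p n m V s t N) (b : X) (k : ℕ) :
    (D' s)^[k] b * ((D s)^[k] b)⁻¹ ∈ V (k + 2) ∧ (D s)^[k] b ∈ V (k + 1) := by
  induction k with
  | zero =>
    refine ⟨?_, by rw [h.top]; exact mem_top _⟩
    rw [Function.iterate_zero, Function.iterate_zero, id, mul_inv_cancel]
    exact one_mem _
  | succ k ih =>
    obtain ⟨h1, h2⟩ := ih
    rw [Function.iterate_succ_apply', Function.iterate_succ_apply']
    set x := (D' s)^[k] b with hx
    set y := (D s)^[k] b with hy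
    refine ⟨?_, D_mem h (by omega) h2⟩
    set u := x * y⁻¹ with hu
    have hxy : x = u * y := by rw [hu, inv_mul_cancel_right]
    have hV3n : (V (k + 3)).Normal := normal h (by omega)
    -- `D x ≡ D y`
    have h3 : D s x * (D s y)⁻¹ ∈ V (k + 3) := by
      have h4 : D s x * (D s y)⁻¹ = (s • u * u⁻¹) * (D s y * u * (D s y)⁻¹ * u⁻¹)⁻¹ := by
        rw [hxy, D, D, smul_mul']
        group
      rw [h4]
      exact (V (k + 3)).mul_mem (h.sact (k + 2) (by omega) u h1)
        ((V (k + 3)).inv_mem (h.comm (k + 2) (by omega) u h1 (D s y)))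
    have hx1 : x ∈ V (k + 1) := by
      rw [hxy]
      exact (V (k + 1)).mul_mem (h.anti _ h1) h2
    have hDx : D s x ∈ V (k + 2) := D_mem h (by omega) hx1
    have h5 : D' s x * (D s x)⁻¹ ∈ V (k + 3) := by
      have h6 : D' s x * (D s x)⁻¹ = s⁻¹ • (D s (D s x))⁻¹ := by
        rw [D', D.eq_1 s (D s x), mul_inv_rev, inv_inv, smul_mul', smul_inv', inv_smul_smul]
      rw [h6]
      exact inv_smul_mem h (by omega) ((V (k + 3)).inv_mem (D_mem h (by omega) hDx))
    have h7 : D' s x * (D s y)⁻¹ = (D' s x * (D s x)⁻¹) * (D s x * (D s y)⁻¹) := by group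
    rw [h7]
    exact (V (k + 3)).mul_mem h5 h3

omit [Finite X] hp in
theorem pr_D (h : Chain p n m V s t N) {q : ℕ} (hq : 1 ≤ q) (hC : commutator X = V q)
    [(V (q + 1)).Normal] (hK : Cen (V (q + 1))) (a b : X) :
    pr hK (D s a) b = (pr hK a (D' s b))⁻¹ := by
  have h1 : pr hK (s • a) b = pr hK a (s⁻¹ • b) := by
    rw [← pr_smul h hq hC hK a (s⁻¹ • b), smul_inv_smul]
  rw [D, D', D, map_mul, map_inv, MonoidHom.mul_apply, MonoidHom.inv_apply, h1, smul_mul',
    smul_inv', inv_smul_smul, map_mul, map_inv]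
  group

omit [Finite X] hp in
theorem pr_iter (h : Chain p n m V s t N) {q : ℕ} (hq : 1 ≤ q) (hC : commutator X = V q)
    [(V (q + 1)).Normal] (hK : Cen (V (q + 1))) (k : ℕ) (a b : X) :
    pr hK ((D s)^[k] a) b = (pr hK a ((D' s)^[k] b)) ^ ((-1 : ℤ) ^ k) := by
  induction k generalizing a with
  | zero => simp
  | succ k ih =>
    rw [Function.iterate_succ_apply, ih, pr_D h hq hC hK, Function.iterate_succ_apply', pow_succ]
    rw [inv_zpow', mul_neg, mul_one]

/-- parity and weight of the position of the radical -/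
theorem rad_pos (h : Chain p n m V s t N) (hp3 : 3 ≤ p) {q r : ℕ} (hq : 2 ≤ q) (hqn : q < n)
    (hC : commutator X = V q) (hr : 2 ≤ r) (hrn : r + 1 ≤ n)
    (hR : ∀ a, a ∈ V r ↔ ∀ b, ⁅a, b⁆ ∈ V (q + 1))
    (hR' : ∀ v ∈ V (r - 1), v ∉ V r → ∀ b, ⁅v, b⁆ ∈ V (q + 1) ↔ b ∈ V 2) :
    ¬ Even r ∧ p - 1 ∣ n + q - r := by
  have hKn : (V (q + 1)).Normal := normal h (by omega)
  have hK := cen h (by omega) hC
  obtain ⟨b, -, hb⟩ := exists_notMem h (i := 1) le_rfl (by omega)
  have hprR : ∀ a u, u ∈ V r → pr hK a u = 1 := by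
    intro a u hu
    rw [pr_swap, inv_eq_one, pr_eq_one]
    exact (hR u).1 hu a
  constructor
  · intro hev
    obtain ⟨h1, h2⟩ := iter_mem h b hb (r - 2) (by omega)
    rw [show r - 2 + 1 = r - 1 by omega] at h1
    rw [show r - 2 + 2 = r by omega] at h2
    have h3 := pr_iter h (by omega) hC hK (r - 2) b b
    have h4 : pr hK b ((D' s)^[r - 2] b) = pr hK b ((D s)^[r - 2] b) := by
      have h5 := (iter_congr h b (r - 2)).1
      rw [show r - 2 + 2 = r by omega] at h5
      have h6 := hprR b _ h5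
      rwa [map_mul, map_inv, mul_inv_eq_one] at h6
    have hev' : Even (r - 2) := by
      rcases hev with ⟨c, hc⟩
      exact ⟨c - 1, by omega⟩
    rw [h4, hev'.neg_one_pow, zpow_one, pr_swap hK b] at h3
    have h7 : (pr hK ((D s)^[r - 2] b) b) ^ 2 = 1 := by
      rw [pow_two]
      nth_rewrite 1 [h3]
      rw [inv_mul_cancel]
    have h8 := pr_pow h (by omega) hqn hC hK ((D s)^[r - 2] b) b
    have h9 : pr hK ((D s)^[r - 2] b) b = 1 := by
      have hcop : Nat.Coprime 2 p := by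
        rw [Nat.coprime_primes Nat.prime_two hp.out]
        omega
      have h10 := Nat.dvd_gcd (orderOf_dvd_of_pow_eq_one h7) (orderOf_dvd_of_pow_eq_one h8)
      rw [hcop.gcd_eq_one] at h10
      exact orderOf_eq_one_iff.1 (Nat.dvd_one.1 h10)
    rw [pr_eq_one] at h9
    exact hb ((hR' _ h1 h2 b).1 h9)
  · obtain ⟨v, hv, hv'⟩ := exists_notMem h (i := r - 1) (by omega) (by omega)
    rw [Nat.sub_add_cancel (by omega)] at hv'
    obtain ⟨r₁, hr₁, hr₁'⟩ := h.tact (r - 1) (by omega) (by omega)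
    obtain ⟨r₂, hr₂, hr₂'⟩ := h.tact 1 le_rfl (by omega)
    obtain ⟨r₃, hr₃, hr₃'⟩ := h.tact q (by omega) hqn
    have hw := comm_mem hC v b
    have hz : pr hK v b ≠ 1 := by
      rw [Ne, pr_eq_one, hR' v hv hv' b]
      exact hb
    have e1 : pr hK (t • v) (t • b) = (pr hK v b) ^ r₃ := by
      apply Subtype.ext
      rw [SubgroupClass.coe_pow, pr_coe, pr_coe, ← smul_comm', ← QuotientGroup.mk_pow]
      have h1 := hr₃' _ hw
      rwa [← QuotientGroup.eq_one_iff, QuotientGroup.mk_mul, QuotientGroup.mk_inv,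
        mul_inv_eq_one] at h1
    have e2 : pr hK (t • v) (t • b) = (pr hK v b) ^ (r₁ * r₂) := by
      have h1 : pr hK (t • v) = pr hK (v ^ r₁) := by
        have h2 := hr₁' v hv
        rw [Nat.sub_add_cancel (by omega)] at h2
        ext c : 1
        have h3 := (pr_eq_one hK).2 ((hR _).1 h2 c)
        rwa [map_mul, map_inv, MonoidHom.mul_apply, MonoidHom.inv_apply, mul_inv_eq_one] at h3
      rw [h1, map_pow, MonoidHom.pow_apply]
      have h2 : pr hK v (t • b) = pr hK v (b ^ r₂) := by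
        have h3 := hr₂' b (by rw [h.top]; exact mem_top _)
        have h4 := (pr_eq_one hK).2 ((hR' v hv hv' _).2 h3)
        rwa [map_mul, map_inv, mul_inv_eq_one] at h4
      rw [h2, map_pow, ← pow_mul, mul_comm]
    rw [e1] at e2
    have hord : orderOf (pr hK v b) = p := orderOf_eq_prime (pr_pow h (by omega) hqn hC hK v b) hz
    rw [pow_eq_pow_iff_modEq, hord, ← ZMod.natCast_eq_natCast_iff] at e2
    have h5 : (m : ZMod p) ^ (n - q) = (m : ZMod p) ^ (n - (r - 1) + (n - 1)) := by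
      have h6 : ((r₁ * r₂ : ℕ) : ZMod p) * (m : ZMod p) ^ (n - (r - 1) + (n - 1)) = 1 := by
        rw [Nat.cast_mul, pow_add]
        calc _ = ((r₁ : ZMod p) * (m : ZMod p) ^ (n - (r - 1))) * ((r₂ : ZMod p) * (m : ZMod p) ^ (n - 1)) := by ring
          _ = 1 := by rw [hr₁, hr₂, one_mul]
      rw [← e2] at h6
      have h7 : (r₃ : ZMod p) ≠ 0 := left_ne_zero_of_mul_eq_one hr₃
      exact mul_left_cancel₀ h7 (hr₃.trans h6.symm)
    apply dvd_of_pow_eq_one h
    have h6 : n - (r - 1) + (n - 1) = (n - q) + (n + q - r) := by omega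
    rw [h6, pow_add] at h5
    exact (mul_left_cancel₀ (pow_ne_zero _ h.ne) (by rw [mul_one]; exact h5)).symm

end Cfsg.Agent.H750.MC
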