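import Cfsg.Agent.H750.MC.Basic

/-!
# The radical of the commutator pairing
-/

set_option autoImplicit false

namespace Cfsg.Agent.H750.MC

open Subgroup Cfsg.Agent.H764.MC
open scoped commutatorElement IsMulCommutative

variable {X M : Type*} [Group X] [Finite X] [Group M] [MulDistribMulAction M X] {p n m : ℕ}
  [hp : Fact p.Prime] {V : ℕ → Subgroup X} {s t : M} {N : Subgroup M}

omit [Finite X] [Group M] [MulDistribMulAction M X] hp in
theorem comm_mem {q : ℕ} (hC : commutator X = V q) (a b : X) : ⁅a, b⁆ ∈ V q := by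
  rw [← hC, commutator_def]
  exact commutator_mem_commutator (mem_top a) (mem_top b)

omit [Finite X] hp in
theorem cen (h : Chain p n m V s t N) {q : ℕ} (hq : 1 ≤ q) (hC : commutator X = V q) :
    Cen (V (q + 1)) := fun a b c => h.comm q hq _ (comm_mem hC a b) c

omit [Finite X] hp in
theorem pr_smul (h : Chain p n m V s t N) {q : ℕ} (hq : 1 ≤ q) (hC : commutator X = V q)
    [(V (q + 1)).Normal] (hK : Cen (V (q + 1))) (a b : X) :
    pr hK (s • a) (s • b) = pr hK a b := by
  apply Subtype.ext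
  rw [pr_coe, pr_coe, ← smul_comm']
  have h1 := h.sact q hq _ (comm_mem hC a b)
  rw [← div_eq_mul_inv] at h1
  rw [← QuotientGroup.eq_one_iff, div_eq_mul_inv, QuotientGroup.mk_mul, QuotientGroup.mk_inv,
    mul_inv_eq_one] at h1
  exact h1

omit [Finite X] in
theorem pr_pow (h : Chain p n m V s t N) {q : ℕ} (hq : 1 ≤ q) (hqn : q < n)
    (hC : commutator X = V q) [(V (q + 1)).Normal] (hK : Cen (V (q + 1))) (a b : X) :
    (pr hK a b) ^ p = 1 := by
  apply Subtype.ext
  rw [SubgroupClass.coe_pow, pr_coe, ← QuotientGroup.mk_pow]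
  exact (QuotientGroup.eq_one_iff _).2 (pow_mem_succ h hq hqn (comm_mem hC a b))

omit [Finite X] in
theorem exists_rad (h : Chain p n m V s t N) {q : ℕ} (hq : 2 ≤ q) (hqn : q < n)
    (hC : commutator X = V q) :
    ∃ r, 2 ≤ r ∧ r + 1 ≤ n ∧ (∀ a, a ∈ V r ↔ ∀ b, ⁅a, b⁆ ∈ V (q + 1)) ∧
      (∀ v ∈ V (r - 1), v ∉ V r → ∀ b, ⁅v, b⁆ ∈ V (q + 1) ↔ b ∈ V 2) := by
  have hKn : (V (q + 1)).Normal := normal h (by omega)
  have hK := cen h (by omega) hC
  have hmemR : ∀ a, a ∈ (pr hK).ker ↔ ∀ b, ⁅a, b⁆ ∈ V (q + 1) := by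
    intro a
    rw [MonoidHom.mem_ker]
    constructor
    · intro h1 b
      rw [← pr_eq_one hK, h1]
      rfl
    · intro h1
      ext b : 1
      exact (pr_eq_one hK).2 (h1 b)
  obtain ⟨r, hr1, hrn, hR⟩ := h.inv (pr hK).ker inferInstance (by
    intro a ha
    rw [MonoidHom.mem_ker] at ha ⊢
    ext b : 1
    have h1 := pr_smul h (by omega) hC hK a (s⁻¹ • b)
    rw [smul_inv_smul, ha] at h1
    exact h1)
  have hr2 : 2 ≤ r := by
    by_contra hcon
    have : r = 1 := by omega
    subst this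
    rw [h.top] at hR
    have h1 : commutator X ≤ V (q + 1) := by
      rw [commutator_def, commutator_le]
      intro a _ b _
      exact (hmemR a).1 (by rw [hR]; exact mem_top a) b
    rw [hC] at h1
    exact not_le h (by omega) hqn h1
  have hrn1 : r + 1 ≤ n := by
    have h1 : V (n - 1) ≤ V r := by
      rw [← hR]
      intro v hv
      rw [hmemR]
      intro b
      have h2 := h.comm (n - 1) (by omega) v hv b
      rw [Nat.sub_add_cancel (by omega), h.bot, mem_bot] at h2
      have h3 : ⁅v, b⁆ = (b * v * b⁻¹ * v⁻¹)⁻¹ := by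
        simp only [commutatorElement_def]; group
      rw [h3, h2, inv_one]
      exact one_mem _
    have := (le_iff h (by omega) (by omega)).1 h1
    omega
  refine ⟨r, hr2, hrn1, fun a => by rw [← hR, hmemR], fun v hv hv' => ?_⟩
  -- the second kernel
  have hsv : ∀ b, pr hK (s • v) b = pr hK v b := by
    intro b
    have h1 : s • v * v⁻¹ ∈ (pr hK).ker := by
      rw [hR]
      have := h.sact (r - 1) (by omega) v hv
      rwa [Nat.sub_add_cancel (by omega)] at this
    rw [MonoidHom.mem_ker, map_mul, map_inv, mul_inv_eq_one] at h1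
    rw [h1]
  obtain ⟨j, hj1, hjn, hJ⟩ := h.inv (pr hK v).ker inferInstance (by
    intro b hb
    rw [MonoidHom.mem_ker] at hb ⊢
    rw [← hsv, pr_smul h (by omega) hC hK, hb])
  have hj : j = 2 := by
    have hj2 : 2 ≤ j := by
      by_contra hcon
      have : j = 1 := by omega
      subst this
      apply hv'
      rw [← hR, MonoidHom.mem_ker]
      ext b : 1
      have h1 : b ∈ (pr hK v).ker := by rw [hJ, h.top]; exact mem_top b
      exact h1
    by_contra hcon
    have hj3 : V j ≤ V 3 := le_of_le h (by omega)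
    obtain ⟨b, -, hb⟩ := exists_notMem h (i := 1) le_rfl (by omega)
    obtain ⟨c, hc, hc'⟩ := exists_notMem h (i := 2) (by omega) (by omega)
    have hvb : ⁅v, b⁆ ∉ V (q + 1) := by
      intro h1
      rw [← pr_eq_one hK] at h1
      have h2 : b ∈ (pr hK v).ker := h1
      rw [hJ] at h2
      exact hb (le_of_le h (by omega) h2)
    obtain ⟨k, hk⟩ := exists_pow h (by omega) hqn (comm_mem hC v b) hvb (comm_mem hC v c)
    have hk1 : c * (b ^ k)⁻¹ ∈ (pr hK v).ker := by
      rw [MonoidHom.mem_ker, map_mul, map_inv, map_zpow, mul_inv_eq_one]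
      rw [← QuotientGroup.eq_one_iff, QuotientGroup.mk_mul, QuotientGroup.mk_inv,
        QuotientGroup.mk_zpow, mul_inv_eq_one] at hk
      exact Subtype.ext hk
    rw [hJ] at hk1
    have hk2 := hj3 hk1
    have hbk : b ^ k ∈ V 2 := by
      have h1 := (V 2).mul_mem ((V 2).inv_mem (h.anti 2 hk2)) hc
      have h2 : (c * (b ^ k)⁻¹)⁻¹ * c = b ^ k := by group
      rwa [h2] at h1
    have hbp : b ^ p ∈ V 2 := pow_mem_succ h le_rfl (by omega) (by rw [h.top]; exact mem_top b)
    have hpk : (p : ℤ) ∣ k := by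
      by_contra hndvd
      apply hb
      have hcop : IsCoprime (p : ℤ) k :=
        (Nat.prime_iff_prime_int.1 hp.out).irreducible.coprime_iff_not_dvd.2 hndvd
      obtain ⟨u, w, huw⟩ := hcop
      have h1 : b = (b ^ p) ^ u * (b ^ k) ^ w := by
        rw [← zpow_natCast, ← zpow_mul, ← zpow_mul, ← zpow_add]
        conv_lhs => rw [← zpow_one b, ← huw]
        congr 1
        ring
      rw [h1]
      exact (V 2).mul_mem ((V 2).zpow_mem hbp u) ((V 2).zpow_mem hbk w)
    obtain ⟨l, rfl⟩ := hpk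
    have h1 : b ^ ((p : ℤ) * l) ∈ V 3 := by
      apply hj3
      rw [← hJ, MonoidHom.mem_ker, map_zpow, zpow_mul, zpow_natCast,
        pr_pow h (by omega) hqn hC hK, one_zpow]
    apply hc'
    have h2 := (V 3).mul_mem hk2 h1
    rwa [inv_mul_cancel_right] at h2
  subst hj
  intro b
  rw [← hJ, MonoidHom.mem_ker, pr_eq_one]

end Cfsg.Agent.H750.MC
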